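/-
The subgroup of order 64 of a pair with `q = 4` is a Sylow 2-subgroup of a simple CIT group.

* `involution_cases` : the involutions of `T` lie in one of the two radicals
* `exists_swap`      : if `T` is no Sylow 2-subgroup, an involution of `N(T)` exchanges the radicals
* `sylow_or_index_two` : `T` is Sylow, or a swap lies outside a subgroup of index two
* `sylow_of_four`    : in a simple group `T` is a Sylow 2-subgroup (Thompson transfer)
-/
import Cfsg.Agent.Lib.CIT.Master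
import Cfsg.Agent.S0111

set_option autoImplicit false

open Cfsg
open scoped Pointwise

namespace Cfsg.Agent.CITClass

open CIT

variable {G : Type*} [Group G] [Finite G] {D₁ D₂ T : Subgroup G}

theorem pair_symm (hG : IsCIT G) (P : IsPair D₁ D₂ T 4) : IsPair D₂ D₁ T 4 := by
  refine ⟨P.ne.symm, P.rad₂, P.rad₁, P.nat₂, P.nat₁, P.el₂, P.el₁, ?_, P.card_T⟩
  refine Subgroup.eq_of_le_of_card_ge (fun x hx => ⟨P.el₁.le hx.2, (P.inf_eq.le ⟨hx.2, hx.1⟩).2⟩) ?_
  rw [P.nat₁.nat.card_fix, inf_comm, P.inf_eq, P.nat₂.nat.card_fix]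

section

variable (P : IsPair D₁ D₂ T 4)
include P

theorem card_D : Nat.card D₁ = 16 := by rw [P.el₁, P.nat₁.nat.card_W]; norm_num

theorem card_C : Nat.card ↥(D₁ ⊓ D₂) = 4 := by rw [P.inf_eq, P.nat₂.nat.card_fix]

theorem sq_one {x : G} (hx : x ∈ D₁) : x * x = 1 := omegaZ_sq (P.el₁.le hx)

theorem comm_D {x y : G} (hx : x ∈ D₁) (hy : y ∈ D₁) : x * y = y * x := omegaZ_comm (P.el₁.le hy) hx

theorem central {c t : G} (hc : c ∈ D₁ ⊓ D₂) (ht : t ∈ T) : t * c = c * t :=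
  mem_centralizer'.1 (P.inf_eq.le hc).2 t ht

theorem sup_eq (hG : IsCIT G) : D₁ ⊔ D₂ = T := by
  refine Subgroup.eq_of_le_of_card_ge (sup_le P.rad₁.le P.rad₂.le) ?_
  have h1 := Subgroup.card_mul_index (D₁.subgroupOf (D₁ ⊔ D₂))
  rw [Cores.card_subgroupOf le_sup_left, card_D P] at h1
  have h2 := Subgroup.card_mul_index (D₁.subgroupOf D₂)
  rw [← Subgroup.inf_subgroupOf_right, Cores.card_subgroupOf inf_le_right, card_C P,
    Subgroup.inf_subgroupOf_right, card_D (pair_symm hG P)] at h2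
  have h3 : D₁.relIndex D₂ ≤ D₁.relIndex (D₁ ⊔ D₂) :=
    Subgroup.relIndex_le_of_le_right le_sup_right Subgroup.index_ne_zero_of_finite
  change 4 * D₁.relIndex D₂ = 16 at h2
  change 16 * D₁.relIndex (D₁ ⊔ D₂) = _ at h1
  rw [P.card_T, ← h1]
  omega

theorem decomp (hG : IsCIT G) {x : G} (hx : x ∈ T) : ∃ a ∈ D₁, ∃ b ∈ D₂, a * b = x := by
  have hx' : x ∈ ((D₁ ⊔ D₂ : Subgroup G) : Set G) := (sup_eq P hG).ge hx
  rw [Subgroup.coe_mul_of_right_le_normalizer_left D₁ D₂ (P.rad₂.le.trans P.rad₁.T_le), Set.mem_mul] at hx'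
  exact hx'

theorem fix_mem (hG : IsCIT G) {a b : G} (hb : b ∈ T) (hbD : b ∉ D₁) (ha : a ∈ D₁) (h : b * a = a * b) :
    a ∈ D₁ ⊓ D₂ :=
  ⟨ha, P.rad₂.centralizer_le hG (mem_centralizer'.2 fun d hd =>
    mem_centralizer'.1 (P.nat₁.nat.fix b hb hbD a (P.el₁.le ha) h) d (P.rad₂.le hd))⟩

/-- The involutions of `T` lie in one of the two radicals. -/
theorem involution_cases (hG : IsCIT G) {x : G} (hx : x ∈ T) (h2 : x * x = 1) : x ∈ D₁ ∨ x ∈ D₂ := by
  obtain ⟨a, ha, b, hb, rfl⟩ := decomp P hG hx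
  by_cases hbD : b ∈ D₁
  · exact Or.inl (D₁.mul_mem ha hbD)
  refine Or.inr (D₂.mul_mem (fix_mem P hG (P.rad₂.le hb) hbD ha ?_).2 hb)
  calc b * a = a⁻¹ * (a * b * (a * b)) * b⁻¹ := by group
    _ = a⁻¹ * b⁻¹ := by rw [h2, mul_one]
    _ = a * b := by
      rw [inv_eq_of_mul_eq_one_right (sq_one P ha), inv_eq_of_mul_eq_one_right (sq_one (pair_symm hG P) hb)]

theorem elem_cases (hG : IsCIT G) {E : Subgroup G} (hE : E ≤ T) (h2 : ∀ x ∈ E, x * x = 1)
    (hc : Nat.card E = 16) : E = D₁ ∨ E = D₂ := by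
  have h : E ≤ D₁ ∨ E ≤ D₂ := by
    by_contra hcon
    push Not at hcon
    obtain ⟨x, hx, hx1⟩ := SetLike.not_le_iff_exists.1 hcon.1
    obtain ⟨y, hy, hy2⟩ := SetLike.not_le_iff_exists.1 hcon.2
    have hx' := (involution_cases P hG (hE hx) (h2 x hx)).resolve_left hx1
    have hy' := (involution_cases P hG (hE hy) (h2 y hy)).resolve_right hy2
    rcases involution_cases P hG (hE (E.mul_mem hx hy)) (h2 _ (E.mul_mem hx hy)) with h | h
    · exact hx1 ((D₁.mul_mem_cancel_right hy').1 h)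
    · exact hy2 ((D₂.mul_mem_cancel_left hx').1 h)
  rcases h with h | h
  · exact Or.inl (Subgroup.eq_of_le_of_card_ge h (by rw [hc, card_D P]))
  · exact Or.inr (Subgroup.eq_of_le_of_card_ge h (by rw [hc, card_D (pair_symm hG P)]))

/-- The normaliser of `D₁` is transitive on its involutions. -/
theorem orbit (hG : IsCIT G) {c x : G} (hc : c ∈ D₁ ⊓ D₂) (hc1 : c ≠ 1) (hx : x ∈ D₁) (hx1 : x ≠ 1) :
    ∃ g ∈ Subgroup.normalizer (D₁ : Set G), g * c * g⁻¹ = x := by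
  classical
  set N := Subgroup.normalizer (D₁ : Set G) with hN
  have hTN : T ≤ N := P.rad₁.T_le
  have hcent : ∀ g ∈ N, g * c = c * g → g ∈ T := by
    intro g hg h
    have hK := P.rad₁.T_max (N ⊓ Subgroup.centralizer ({c} : Set G)) inf_le_left
      ((hG c (Involution.orderOf_of_sq (sq_one P hc.1) hc1)).to_le inf_le_right)
      (le_inf hTN fun t ht => Subgroup.mem_centralizer_singleton_iff.2 (central P hc ht))
    exact hK.le ⟨hg, Subgroup.mem_centralizer_singleton_iff.2 h⟩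
  have hidx : (T.subgroupOf N).index = 15 := by
    have h := Subgroup.card_mul_index (T.subgroupOf N)
    have hc : Nat.card N = 960 := by rw [hN, P.nat₁.nat.card_N, card_D P]
    rw [Cores.card_subgroupOf hTN, hc, P.card_T] at h
    norm_num at h
    omega
  let f : N ⧸ T.subgroupOf N → {y : D₁ // y ≠ 1} := fun q => Quotient.liftOn' q
    (fun g => (⟨⟨(g : G) * c * (g : G)⁻¹, (Subgroup.mem_normalizer_iff.1 g.2 c).1 hc.1⟩,
      fun e => hc1 (conj_eq_one_iff.1 (congrArg Subtype.val e))⟩ : {y : D₁ // y ≠ 1})) (by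
      intro a b hab
      rw [QuotientGroup.leftRel_apply, Subgroup.mem_subgroupOf, Subgroup.coe_mul, Subgroup.coe_inv] at hab
      have e := central P hc hab
      refine Subtype.ext (Subtype.ext ?_)
      show (a : G) * c * (a : G)⁻¹ = (b : G) * c * (b : G)⁻¹
      calc (a : G) * c * (a : G)⁻¹ = (a : G) * (c * ((a : G)⁻¹ * b)) * (b : G)⁻¹ := by group
        _ = (a : G) * ((a : G)⁻¹ * b * c) * (b : G)⁻¹ := by rw [← e]
        _ = (b : G) * c * (b : G)⁻¹ := by group)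
  have hinj : Function.Injective f := fun p q => by
    refine Quotient.inductionOn₂' p q fun a b hab => ?_
    have e : (a : G) * c * (a : G)⁻¹ = (b : G) * c * (b : G)⁻¹ :=
      congrArg (fun z : {y : D₁ // y ≠ 1} => ((z.1 : D₁) : G)) hab
    refine QuotientGroup.eq.2 (Subgroup.mem_subgroupOf.2 (hcent _ (a⁻¹ * b).2 ?_))
    rw [Subgroup.coe_mul, Subgroup.coe_inv]
    calc (a : G)⁻¹ * b * c = (a : G)⁻¹ * ((b : G) * c * (b : G)⁻¹) * b := by group
      _ = c * ((a : G)⁻¹ * b) := by rw [← e]; group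
  have hsurj := ((Nat.bijective_iff_injective_and_card f).2 ⟨hinj, by
    rw [← Subgroup.index_eq_card, hidx, card_ne_one, card_D P]⟩).2
  obtain ⟨q, hq⟩ := hsurj ⟨⟨x, hx⟩, fun e => hx1 (congrArg Subtype.val e)⟩
  induction q using QuotientGroup.induction_on with
  | _ g => exact ⟨g, g.2, congrArg (fun z : {y : D₁ // y ≠ 1} => ((z.1 : D₁) : G)) hq⟩

theorem normalizer_T_cases (hG : IsCIT G) {g : G} (hg : g ∈ Subgroup.normalizer (T : Set G)) :
    D₁.map (MulAut.conj g).toMonoidHom = D₁ ∨ D₁.map (MulAut.conj g).toMonoidHom = D₂ := by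
  refine elem_cases P hG ?_ ?_ ?_
  · rintro _ ⟨d, hd, rfl⟩
    exact (Subgroup.mem_normalizer_iff.1 hg d).1 (P.rad₁.le hd)
  · rintro _ ⟨d, hd, rfl⟩
    show g * d * g⁻¹ * (g * d * g⁻¹) = 1
    rw [_root_.conj_mul, sq_one P hd, mul_one, mul_inv_cancel]
  · rw [Subgroup.card_map_of_injective (f := (MulAut.conj g).toMonoidHom) (MulAut.conj g).injective, card_D P]

theorem mem_N₂ (hG : IsCIT G) {g : G} (hg : g ∈ Subgroup.normalizer (T : Set G))
    (h1 : g ∈ Subgroup.normalizer (D₁ : Set G)) : g ∈ Subgroup.normalizer (D₂ : Set G) := by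
  rcases normalizer_T_cases (pair_symm hG P) hG hg with h | h
  · exact Subgroup.mem_normalizer_iff_map_conj_eq.2 h
  · exact absurd (Subgroup.map_injective (f := (MulAut.conj g).toMonoidHom) (MulAut.conj g).injective
      ((Subgroup.mem_normalizer_iff_map_conj_eq.1 h1).trans h.symm)) P.ne

theorem mem_N₁ (hG : IsCIT G) {g : G} (hg : g ∈ Subgroup.normalizer (T : Set G))
    (h2 : g ∈ Subgroup.normalizer (D₂ : Set G)) : g ∈ Subgroup.normalizer (D₁ : Set G) :=
  mem_N₂ (pair_symm hG P) hG hg h2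

theorem map_swap (hG : IsCIT G) {g : G} (hg : g ∈ Subgroup.normalizer (T : Set G))
    (h1 : g ∉ Subgroup.normalizer (D₁ : Set G)) :
    D₁.map (MulAut.conj g).toMonoidHom = D₂ ∧ D₂.map (MulAut.conj g).toMonoidHom = D₁ := by
  refine ⟨(normalizer_T_cases P hG hg).resolve_left fun h => h1 (Subgroup.mem_normalizer_iff_map_conj_eq.2 h),
    (normalizer_T_cases (pair_symm hG P) hG hg).resolve_left fun h => h1 (mem_N₁ P hG hg
      (Subgroup.mem_normalizer_iff_map_conj_eq.2 h))⟩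

theorem mul_mem_N (hG : IsCIT G) {g g' : G} (hg : g ∈ Subgroup.normalizer (T : Set G))
    (hg' : g' ∈ Subgroup.normalizer (T : Set G)) (h : g ∉ Subgroup.normalizer (D₁ : Set G))
    (h' : g' ∉ Subgroup.normalizer (D₁ : Set G)) : g * g' ∈ Subgroup.normalizer (D₁ : Set G) := by
  refine Subgroup.mem_normalizer_iff_map_conj_eq.2 ?_
  show D₁.map (MulAut.conj (g * g')).toMonoidHom = D₁
  rw [show D₁.map (MulAut.conj (g * g')).toMonoidHom =
    (D₁.map (MulAut.conj g').toMonoidHom).map (MulAut.conj g).toMonoidHom by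
      rw [Subgroup.map_map]; congr 1; ext x; simp [mul_assoc],
    (map_swap P hG hg' h').1, (map_swap P hG hg h).2]

/-- An element exchanging the radicals can be taken to be an involution. -/
theorem exists_swap (hG : IsCIT G) (hT : ¬ ∃ S : Sylow 2 G, (S : Subgroup G) = T) :
    ∃ t ∈ Subgroup.normalizer (T : Set G), t * t = 1 ∧ t ∉ Subgroup.normalizer (D₁ : Set G) := by
  classical
  haveI : Fact (Nat.Prime 2) := ⟨Nat.prime_two⟩
  set N₁ := Subgroup.normalizer (D₁ : Set G) with hN₁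
  set X := Subgroup.normalizer (T : Set G) with hX
  obtain ⟨s, hsX, hs1⟩ : ∃ s ∈ X, s ∉ N₁ := by
    obtain ⟨S, hS⟩ := P.rad₁.T_two.exists_le_sylow
    obtain ⟨x, hxS, hxT, hxn⟩ := exists_normalizing S.2 hS fun e => hT ⟨S, e.symm⟩
    exact ⟨x, hxn, fun h => hxT ((P.rad₁.eq_top_inf S S.2 hS).le ⟨hxS, h⟩)⟩
  set M := N₁ ⊓ X with hM
  -- `M` is not a 2-group
  have hM2 : ¬ IsPGroup 2 M := by
    intro h2
    have hMT : M = T := P.rad₁.T_max M inf_le_left h2 (le_inf P.rad₁.T_le Subgroup.le_normalizer)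
    obtain ⟨c, hc, hc1⟩ := (Subgroup.nontrivial_iff_exists_ne_one _).1
      (Finite.one_lt_card_iff_nontrivial.1 (show 1 < Nat.card ↥(D₁ ⊓ D₂) by rw [card_C P]; norm_num))
    obtain ⟨c', hc', hc'1, hne⟩ : ∃ c' ∈ D₁ ⊓ D₂, c' ≠ 1 ∧ c' ≠ c := by
      by_contra hcon
      push Not at hcon
      have h : ((D₁ ⊓ D₂ : Subgroup G) : Set G) ⊆ {1, c} := fun y hy => by
        rcases eq_or_ne y 1 with h | h
        · exact Or.inl h
        · exact Or.inr (hcon y hy h)
      have h1 := Set.ncard_le_ncard h (Set.toFinite _)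
      rw [← Nat.card_coe_set_eq, SetLike.coe_sort_coe, card_C P, Set.ncard_pair (Ne.symm hc1)] at h1
      omega
    obtain ⟨g, hg, hgc⟩ := orbit P hG hc hc1 hc'.1 hc'1
    have hle : T.map (MulAut.conj g).toMonoidHom ≤ Subgroup.centralizer ({c'} : Set G) := by
      rintro _ ⟨t, ht, rfl⟩
      refine Subgroup.mem_centralizer_singleton_iff.2 ?_
      show g * t * g⁻¹ * c' = c' * (g * t * g⁻¹)
      rw [← hgc]
      calc g * t * g⁻¹ * (g * c * g⁻¹) = g * (t * c) * g⁻¹ := by group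
        _ = g * c * g⁻¹ * (g * t * g⁻¹) := by rw [central P hc ht]; group
    have hT' : T ≤ Subgroup.centralizer ({c'} : Set G) := fun t ht =>
      Subgroup.mem_centralizer_singleton_iff.2 (central P hc' ht)
    have h := P.rad₁.T_max _ (sup_le P.rad₁.T_le (P.rad₁.map_le_N hg))
      ((hG c' (Involution.orderOf_of_sq (sq_one P hc'.1) hc'1)).to_le (sup_le hT' hle)) le_sup_left
    have hgX : g ∈ X := Subgroup.mem_normalizer_iff_map_conj_eq.2
      (Subgroup.eq_of_le_of_card_ge (le_sup_right.trans h.le) (le_of_eq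
        (Subgroup.card_map_of_injective (f := (MulAut.conj g).toMonoidHom) (MulAut.conj g).injective).symm))
    refine hne ?_
    rw [← hgc, central P hc (hMT.le ⟨hg, hgX⟩), mul_inv_cancel_right]
  obtain ⟨y, hy, r, hr, hr2, hyr⟩ := exists_odd_prime_of_not_two hM2
  haveI := Fact.mk hr
  set Mx := M.subgroupOf X with hMx
  haveI : Mx.Normal := ⟨fun m hm n => by
    rw [hMx, Subgroup.mem_subgroupOf, hM, Subgroup.mem_inf] at hm ⊢
    refine ⟨?_, (n * m * n⁻¹ : X).2⟩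
    push_cast
    rcases em ((n : G) ∈ N₁) with hn | hn
    · exact N₁.mul_mem (N₁.mul_mem hn hm.1) (N₁.inv_mem hn)
    · refine mul_mem_N P hG (X.mul_mem n.2 hm.2) (X.inv_mem n.2) (fun h => hn ?_) fun h => hn ?_
      · exact (N₁.mul_mem_cancel_right hm.1).1 h
      · exact inv_mem_iff.1 h⟩
  obtain ⟨Pr⟩ := (inferInstance : Nonempty (Sylow r Mx))
  set R : Subgroup X := (Pr : Subgroup Mx).map Mx.subtype with hR
  have hsMx : (⟨s, hsX⟩ : X) ∉ Mx := fun h => hs1 (Subgroup.mem_subgroupOf.1 h).1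
  obtain ⟨t₀, ht₀, ht₀M⟩ : ∃ t₀ ∈ Subgroup.normalizer (R : Set X), t₀ ∉ Mx := by
    by_contra hcon
    push Not at hcon
    have h := Sylow.normalizer_sup_eq_top Pr
    rw [← hR, sup_eq_right.2 hcon] at h
    exact hsMx (h ▸ Subgroup.mem_top _)
  obtain ⟨k, m, hm, hn⟩ := Nat.exists_eq_two_pow_mul_odd (orderOf_pos t₀).ne'
  set t₁ := t₀ ^ m with ht₁
  have hsq : t₀ * t₀ ∈ Mx := by
    rw [hMx, Subgroup.mem_subgroupOf, hM, Subgroup.mem_inf]
    have h : (t₀ : G) ∉ N₁ := fun h => ht₀M (Subgroup.mem_subgroupOf.2 ⟨h, t₀.2⟩)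
    exact ⟨mul_mem_N P hG t₀.2 t₀.2 h h, (t₀ * t₀ : X).2⟩
  have ht₁M : t₁ ∉ Mx := fun h => ht₀M (by
    obtain ⟨j, rfl⟩ := hm
    rw [ht₁, pow_succ', pow_mul, pow_two] at h
    exact (Mx.mul_mem_cancel_right (Mx.pow_mem hsq j)).1 h)
  have ht₁R : t₁ ∈ Subgroup.normalizer (R : Set X) := Subgroup.pow_mem _ ht₀ m
  have ht₁2 : t₁ ^ 2 ^ k = 1 := by rw [ht₁, ← pow_mul, mul_comm, ← hn, pow_orderOf_eq_one]
  refine ⟨(t₁ : G), t₁.2, ?_, fun h => ht₁M (Subgroup.mem_subgroupOf.2 ⟨h, t₁.2⟩)⟩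
  set u := t₁ * t₁ with hu
  have huN : (u : G) ∈ N₁ :=
    mul_mem_N P hG t₁.2 t₁.2 (fun h => ht₁M (Subgroup.mem_subgroupOf.2 ⟨h, t₁.2⟩))
      fun h => ht₁M (Subgroup.mem_subgroupOf.2 ⟨h, t₁.2⟩)
  have hu2 : IsPGroup 2 (Subgroup.zpowers (u : G)) := by
    obtain ⟨j, -, hj⟩ := (Nat.dvd_prime_pow Nat.prime_two).1
      (orderOf_dvd_of_pow_eq_one (show (u : G) ^ 2 ^ k = 1 by
        rw [← SubmonoidClass.coe_pow, hu, ← pow_two, ← pow_mul, mul_comm, pow_mul, ht₁2, one_pow]; rfl))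
    exact IsPGroup.of_card (n := j) (by rw [Nat.card_zpowers, hj])
  have huT : (u : G) ∈ T := by
    have h := P.rad₁.T_max (T ⊔ Subgroup.zpowers (u : G)) (sup_le P.rad₁.T_le (Subgroup.zpowers_le.2 huN))
      (P.rad₁.T_two.to_sup_of_normal_left' hu2 (Subgroup.zpowers_le.2 u.2)) le_sup_left
    exact h.le (Subgroup.mem_sup_right (Subgroup.mem_zpowers _))
  -- a nontrivial element of `R`
  obtain ⟨p, hp, hp1⟩ : ∃ p ∈ R, p ≠ 1 := by
    have hd : r ∣ Nat.card (Pr : Subgroup Mx) := Pr.dvd_card_of_dvd_card (by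
      rw [hMx, Cores.card_subgroupOf (inf_le_right : M ≤ X), ← hyr]
      exact Subgroup.orderOf_dvd_natCard M hy)
    haveI : Nontrivial (Pr : Subgroup Mx) := Finite.one_lt_card_iff_nontrivial.1
      (lt_of_lt_of_le hr.one_lt (Nat.le_of_dvd Nat.card_pos hd))
    obtain ⟨q, hq, hq1⟩ := (Subgroup.nontrivial_iff_exists_ne_one _).1
      (inferInstance : Nontrivial (Pr : Subgroup Mx))
    exact ⟨q, ⟨q, hq, rfl⟩, fun e => hq1 (Subtype.ext e)⟩
  have hRr : IsPGroup r R := Pr.2.map _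
  have hd2 : orderOf (p : G) ∣ Nat.card R := by
    rw [Subgroup.orderOf_coe]; exact Subgroup.orderOf_dvd_natCard R hp
  have hpodd : Odd (orderOf (p : G)) := by
    obtain ⟨j, hj⟩ := IsPGroup.iff_card.1 hRr
    exact ((hr.odd_of_ne_two hr2).pow).of_dvd_nat (hj ▸ hd2)
  have hc : u * p * u⁻¹ * p⁻¹ = 1 := by
    have hmR : u * p * u⁻¹ * p⁻¹ ∈ R := R.mul_mem
      ((Subgroup.mem_normalizer_iff.1 (Subgroup.mul_mem _ ht₁R ht₁R) p).1 hp) (R.inv_mem hp)
    have hmT : ((u * p * u⁻¹ * p⁻¹ : X) : G) ∈ T := by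
      push_cast
      rw [mul_assoc (u : G), mul_assoc (u : G)]
      exact T.mul_mem huT ((Subgroup.mem_normalizer_iff.1 p.2 _).1 (T.inv_mem huT))
    obtain ⟨j, hj⟩ := IsPGroup.iff_card.1 hRr
    have ho : Odd (orderOf ((u * p * u⁻¹ * p⁻¹ : X) : G)) := by
      rw [Subgroup.orderOf_coe]
      exact ((hr.odd_of_ne_two hr2).pow).of_dvd_nat (hj ▸ Subgroup.orderOf_dvd_natCard R hmR)
    exact Subtype.ext (eq_one_of_mem_two P.rad₁.T_two hmT ho)
  by_contra hu1
  refine hp1 (Subtype.ext (hG.fpf hu2 (Subgroup.mem_zpowers (u : G)) (fun e => hu1 ?_) hpodd ?_))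
  · rwa [hu, Subgroup.coe_mul] at e
  · have h := congrArg Subtype.val (mul_inv_eq_iff_eq_mul.1 (mul_inv_eq_one.1 hc))
    rw [Subgroup.coe_mul, Subgroup.coe_mul] at h
    exact h.symm

/-- `T` is a Sylow 2-subgroup, or an involution exchanging the radicals lies outside a subgroup of
index two. -/
theorem sylow_or_index_two (hG : IsCIT G) : (∃ S : Sylow 2 G, (S : Subgroup G) = T) ∨
    ∃ (N : Subgroup G) (t : G), N.Normal ∧ N.index = 2 ∧ t * t = 1 ∧ t ∉ N ∧
      t ∈ Subgroup.normalizer (T : Set G) ∧ t ∉ Subgroup.normalizer (D₁ : Set G) := by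
  classical
  haveI : Fact (Nat.Prime 2) := ⟨Nat.prime_two⟩
  by_contra hcon
  push Not at hcon
  obtain ⟨hT', hno⟩ := hcon
  have hT : ¬ ∃ S : Sylow 2 G, (S : Subgroup G) = T := fun ⟨S, h⟩ => hT' S h
  obtain ⟨t, htn, htt, ht1⟩ := exists_swap P hG hT
  have htT : t ∉ T := fun h => ht1 (P.rad₁.T_le h)
  have ht_ne : t ≠ 1 := fun h => htT (h ▸ T.one_mem)
  have hto : orderOf t = 2 := Involution.orderOf_of_sq htt ht_ne
  have hti : t⁻¹ = t := inv_eq_of_mul_eq_one_right htt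
  have hswap := map_swap P hG htn ht1
  set T₁ := T ⊔ Subgroup.zpowers t with hT₁
  have hT₁n : T₁ ≤ Subgroup.normalizer (T : Set G) := sup_le Subgroup.le_normalizer (Subgroup.zpowers_le.2 htn)
  have hdec : ∀ x ∈ T₁, x ∈ T ∨ x * t ∈ T := by
    intro x hx
    have hx' : x ∈ ((T ⊔ Subgroup.zpowers t : Subgroup G) : Set G) := hx
    rw [Subgroup.coe_mul_of_right_le_normalizer_left T (Subgroup.zpowers t) (Subgroup.zpowers_le.2 htn),
      Set.mem_mul] at hx'
    obtain ⟨a, ha, b, hb, rfl⟩ := hx'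
    obtain ⟨i, rfl⟩ := Subgroup.mem_zpowers_iff.1 hb
    rcases Int.even_or_odd i with ⟨j, hj⟩ | ⟨j, hj⟩
    · refine Or.inl ?_
      rw [hj, ← two_mul, zpow_mul, zpow_two, htt, one_zpow, mul_one]
      exact ha
    · refine Or.inr ?_
      rw [hj, zpow_add, zpow_mul, zpow_two, htt, one_zpow, one_mul, zpow_one, mul_assoc, htt, mul_one]
      exact ha
  have hmul : ∀ x ∈ T₁, ∀ y ∈ T₁, x ∉ T → y ∉ T → x * y ∈ T := by
    intro x hx y hy hxT hyT
    have h1 := (hdec x hx).resolve_left hxT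
    have h2 := (hdec y hy).resolve_left hyT
    have h3 : t * y ∈ T := by
      have := (Subgroup.mem_normalizer_iff.1 htn _).1 h2
      rwa [show t * (y * t) * t⁻¹ = t * y by group] at this
    have := T.mul_mem h1 h3
    rwa [show x * t * (t * y) = x * (t * t) * y by group, htt, mul_one] at this
  -- elementary subgroups of order 16
  have hE : ∀ E : Subgroup G, E ≤ T₁ → (∀ e ∈ E, e * e = 1) → Nat.card E = 16 → E ≤ T := by
    intro E hE1 hE2 hE16
    by_contra hET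
    obtain ⟨v, hv, hvT⟩ := SetLike.not_le_iff_exists.1 hET
    have hv1 : v ∉ Subgroup.normalizer (D₁ : Set G) := fun h => by
      have h1 := (hdec v (hE1 hv)).resolve_left hvT
      exact ht1 (((Subgroup.normalizer (D₁ : Set G)).mul_mem_cancel_left h).1 (P.rad₁.T_le h1))
    have hsub : E ⊓ T ≤ D₁ ⊓ D₂ := by
      rintro x ⟨hx, hxT⟩
      have hcv : v * x * v⁻¹ = x := by
        have h := hE2 _ (E.mul_mem hv hx)
        calc v * x * v⁻¹ = (v * x) * ((v * x) * (v * x))⁻¹ * v⁻¹ := by rw [h, inv_one, mul_one]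
          _ = x⁻¹ * (v⁻¹ * v⁻¹) := by group
          _ = x := by rw [← mul_inv_rev, hE2 v hv, inv_one, mul_one, inv_eq_of_mul_eq_one_right (hE2 x hx)]
      obtain ⟨hs1, hs2⟩ := map_swap P hG (hT₁n (hE1 hv)) hv1
      rcases involution_cases P hG hxT (hE2 x hx) with h | h
      · exact ⟨h, hs1.le ⟨x, h, hcv⟩⟩
      · exact ⟨hs2.le ⟨x, h, hcv⟩, h⟩
    have hcard : Nat.card E ≤ Nat.card (↥(D₁ ⊓ D₂) × Bool) := by
      refine Nat.card_le_card_of_injective (fun e : E =>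
        if h : (e : G) ∈ T then ((⟨e, hsub ⟨e.2, h⟩⟩ : ↥(D₁ ⊓ D₂)), true)
        else ((⟨(e : G) * v, hsub ⟨E.mul_mem e.2 hv, hmul _ (hE1 e.2) _ (hE1 hv) h hvT⟩⟩ : ↥(D₁ ⊓ D₂)), false))
        ?_
      intro a b hab
      simp only at hab
      split at hab <;> split at hab <;> simp only [Prod.mk.injEq, Subtype.mk.injEq, Bool.true_eq_false,
        Bool.false_eq_true, and_false, and_true, mul_left_inj] at hab
      · exact Subtype.ext hab
      · exact Subtype.ext hab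
    rw [hE16, Nat.card_prod, card_C P, Nat.card_eq_fintype_card (α := Bool), Fintype.card_bool] at hcard
    omega
  obtain ⟨S, hS⟩ := (P.rad₁.T_two.to_sup_of_normal_left'
    (IsPGroup.of_card (n := 1) (by rw [Nat.card_zpowers, hto, pow_one]) : IsPGroup 2 (Subgroup.zpowers t))
    (Subgroup.zpowers_le.2 htn)).exists_le_sylow
  rw [← hT₁] at hS
  have hTS : T ≤ (S : Subgroup G) := le_sup_left.trans hS
  have htS : t ∈ (S : Subgroup G) := hS (Subgroup.mem_sup_right (Subgroup.mem_zpowers t))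
  -- `S = T₁`
  have hST : (S : Subgroup G) ≤ T₁ := by
    by_contra hne
    obtain ⟨x, hxS, hxT, hxn⟩ := exists_normalizing S.2 hS fun e => hne e.ge
    have hconj : ∀ {D : Subgroup G}, D ≤ T → (∀ d ∈ D, d * d = 1) → Nat.card D = 16 →
        ∀ d ∈ D, x * d * x⁻¹ ∈ T := fun {D} hD h2 h16 d hd => by
      refine hE (D.map (MulAut.conj x).toMonoidHom) ?_ ?_ ?_ ⟨d, hd, rfl⟩
      · rintro _ ⟨e, he, rfl⟩
        exact (Subgroup.mem_normalizer_iff.1 hxn e).1 (le_sup_left (a := T) (hD he))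
      · rintro _ ⟨e, he, rfl⟩
        show x * e * x⁻¹ * (x * e * x⁻¹) = 1
        rw [_root_.conj_mul, h2 e he, mul_one, mul_inv_cancel]
      · rw [Subgroup.card_map_of_injective (f := (MulAut.conj x).toMonoidHom) (MulAut.conj x).injective, h16]
    have hxN : x ∈ Subgroup.normalizer (T : Set G) := Subgroup.mem_normalizer_fintype fun n hn => by
      obtain ⟨a, ha, b, hb, rfl⟩ := decomp P hG hn
      rw [show x * (a * b) * x⁻¹ = (x * a * x⁻¹) * (x * b * x⁻¹) by group]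
      exact T.mul_mem (hconj P.rad₁.le (fun d hd => sq_one P hd) (card_D P) a ha)
        (hconj P.rad₂.le (fun d hd => sq_one (pair_symm hG P) hd) (card_D (pair_symm hG P)) b hb)
    have htop := P.rad₁.eq_top_inf S S.2 hTS
    by_cases hx1 : x ∈ Subgroup.normalizer (D₁ : Set G)
    · exact hxT (Subgroup.mem_sup_left (htop.le ⟨hxS, hx1⟩))
    · have h := htop.le ⟨S.mul_mem hxS htS, mul_mem_N P hG hxN htn hx1 ht1⟩
      have := T₁.mul_mem (Subgroup.mem_sup_left h : x * t ∈ T₁) (Subgroup.mem_sup_right (Subgroup.mem_zpowers t))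
      rw [mul_assoc, htt, mul_one] at this
      exact hxT this
  have hS' : (S : Subgroup G) = T₁ := le_antisymm hST hS
  have hidx : T.relIndex (S : Subgroup G) = 2 := by
    refine Subgroup.index_eq_two_iff.2 ⟨⟨t, htS⟩, fun b => ?_⟩
    rw [Subgroup.mem_subgroupOf, Subgroup.mem_subgroupOf, Subgroup.coe_mul]
    rcases hdec b (hST b.2) with h | h
    · exact Or.inr ⟨h, fun h' => htT ((T.mul_mem_cancel_left h).1 h')⟩
    · exact Or.inl ⟨h, fun h' => htT ((T.mul_mem_cancel_left h').1 h)⟩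
  -- transfer
  obtain ⟨g, hg⟩ : ∃ g : G, g * t * g⁻¹ ∈ T := by
    refine (S0111.result S T hTS hidx t hto htS htT).resolve_left ?_
    rintro ⟨N, hN, hN2, htN⟩
    exact ht1 (hno N t hN hN2 htt htN htn)
  -- a fixed point
  obtain ⟨c₀, hc₀, hc₀1, hc₀t⟩ : ∃ c ∈ D₁ ⊓ D₂, c ≠ 1 ∧ t * c = c * t := by
    obtain ⟨c, hc, hc1⟩ := (Subgroup.nontrivial_iff_exists_ne_one _).1
      (Finite.one_lt_card_iff_nontrivial.1 (show 1 < Nat.card ↥(D₁ ⊓ D₂) by rw [card_C P]; norm_num))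
    have hd : t * c * t⁻¹ ∈ D₁ ⊓ D₂ :=
      ⟨hswap.2.le ⟨c, hc.2, rfl⟩, hswap.1.le ⟨c, hc.1, rfl⟩⟩
    by_cases he : c * (t * c * t⁻¹) = 1
    · refine ⟨c, hc, hc1, ?_⟩
      rw [← mul_inv_eq_iff_eq_mul, ← inv_eq_of_mul_eq_one_right he, inv_eq_of_mul_eq_one_right (sq_one P hc.1)]
    · refine ⟨_, (D₁ ⊓ D₂).mul_mem hc hd, he, ?_⟩
      rw [← mul_inv_eq_iff_eq_mul]
      calc t * (c * (t * c * t⁻¹)) * t⁻¹ = (t * c * t⁻¹) * ((t * t) * c * (t⁻¹ * t⁻¹)) := by group
        _ = (t * c * t⁻¹) * c := by rw [← mul_inv_rev, htt, inv_one, mul_one, one_mul]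
        _ = c * (t * c * t⁻¹) := comm_D P hd.1 hc.1
  -- centralisers of fixed points
  have hCS : ∀ z ∈ D₁ ⊓ D₂, z ≠ 1 → t * z = z * t →
      Subgroup.centralizer ({z} : Set G) = (S : Subgroup G) := fun z hz hz1 hzt =>
    S.3 (hG z (Involution.orderOf_of_sq (sq_one P hz.1) hz1)) (by
      rw [hS']
      exact sup_le (fun y hy => Subgroup.mem_centralizer_singleton_iff.2 (central P hz hy))
        (Subgroup.zpowers_le.2 (Subgroup.mem_centralizer_singleton_iff.2 hzt)))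
  -- move `t` to `c₀`
  obtain ⟨g, hgt⟩ : ∃ g' : G, g' * t * g'⁻¹ = c₀ := by
    have hx1 : g * t * g⁻¹ ≠ 1 := fun e => ht_ne (conj_eq_one_iff.1 e)
    have hx2 : g * t * g⁻¹ * (g * t * g⁻¹) = 1 := by rw [_root_.conj_mul, htt, mul_one, mul_inv_cancel]
    obtain ⟨k, hk⟩ : ∃ k, k * c₀ * k⁻¹ = g * t * g⁻¹ := by
      rcases involution_cases P hG hg hx2 with h | h
      · obtain ⟨k, -, hk⟩ := orbit P hG hc₀ hc₀1 h hx1
        exact ⟨k, hk⟩
      · obtain ⟨k, -, hk⟩ := orbit (pair_symm hG P) hG (inf_comm D₁ D₂ ▸ hc₀) hc₀1 h hx1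
        exact ⟨k, hk⟩
    refine ⟨k⁻¹ * g, ?_⟩
    calc k⁻¹ * g * t * (k⁻¹ * g)⁻¹ = k⁻¹ * (g * t * g⁻¹) * k := by group
      _ = c₀ := by rw [← hk]; group
  have hA : ∀ z ∈ D₁ ⊓ D₂, z ≠ 1 → t * z = z * t → g * z * g⁻¹ ∉ T := by
    intro z hz hz1 hzt hmem
    have hsq : g * z * g⁻¹ * (g * z * g⁻¹) = 1 := by
      rw [_root_.conj_mul, sq_one P hz.1, mul_one, mul_inv_cancel]
    have key : ∀ {A B : Subgroup G}, IsPair A B T 4 → g * z * g⁻¹ ∈ A → c₀ ∈ A → False := by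
      intro A B PA hzA hcA
      have hle : A.map (MulAut.conj g⁻¹).toMonoidHom ≤ T := by
        refine hE _ ?_ ?_ ?_
        · rintro _ ⟨a, ha, rfl⟩
          refine hST ?_
          rw [← hCS z hz hz1 hzt, Subgroup.mem_centralizer_singleton_iff]
          show g⁻¹ * a * g⁻¹⁻¹ * z = z * (g⁻¹ * a * g⁻¹⁻¹)
          calc g⁻¹ * a * g⁻¹⁻¹ * z = g⁻¹ * (a * (g * z * g⁻¹)) * g := by group
            _ = _ := by rw [comm_D PA ha hzA]; group
        · rintro _ ⟨a, ha, rfl⟩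
          show g⁻¹ * a * g⁻¹⁻¹ * (g⁻¹ * a * g⁻¹⁻¹) = 1
          rw [_root_.conj_mul, sq_one PA ha, mul_one, mul_inv_cancel]
        · rw [Subgroup.card_map_of_injective (f := (MulAut.conj g⁻¹).toMonoidHom) (MulAut.conj g⁻¹).injective,
            card_D PA]
      refine htT ?_
      have := hle ⟨c₀, hcA, rfl⟩
      rwa [MulEquiv.coe_toMonoidHom, MulAut.conj_apply, inv_inv, ← hgt,
        show g⁻¹ * (g * t * g⁻¹) * g = t by group] at this
    rcases involution_cases P hG hmem hsq with h | h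
    · exact key P h hc₀.1
    · exact key (pair_symm hG P) h hc₀.2
  have hmapS : ∀ x, t * x = x * t → g * x * g⁻¹ ∈ (S : Subgroup G) := fun x hx => by
    rw [← hCS c₀ hc₀ hc₀1 hc₀t, Subgroup.mem_centralizer_singleton_iff, ← hgt]
    calc g * x * g⁻¹ * (g * t * g⁻¹) = g * (x * t) * g⁻¹ := by group
      _ = _ := by rw [← hx]; group
  have hfixC : ∀ z ∈ D₁ ⊓ D₂, t * z = z * t → z = 1 ∨ z = c₀ := by
    intro z hz hzt
    by_contra hcon
    push Not at hcon
    have hzc : z * c₀ ≠ 1 := fun e => hcon.2 (by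
      rw [eq_inv_of_mul_eq_one_left e, inv_eq_of_mul_eq_one_right (sq_one P hc₀.1)])
    refine hA _ ((D₁ ⊓ D₂).mul_mem hz hc₀) hzc
      ((show Commute t z from hzt).mul_right hc₀t) ?_
    rw [show g * (z * c₀) * g⁻¹ = (g * z * g⁻¹) * (g * c₀ * g⁻¹) by group]
    exact hmul _ (hST (hmapS z hzt)) _ (hST (hmapS c₀ hc₀t)) (hA z hz hcon.1 hzt) (hA c₀ hc₀ hc₀1 hc₀t)
  have hfixT : ∀ x ∈ T, t * x = x * t → x = 1 ∨ x = c₀ := by
    intro x hx hxt
    have hC : x * x ∈ D₁ ⊓ D₂ := ⟨P.nat₁.nat.sq x hx, P.nat₂.nat.sq x hx⟩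
    have h2 : x * x = 1 := by
      by_contra h
      refine hA _ hC h ((show Commute t x from hxt).mul_right hxt) ?_
      rw [← _root_.conj_mul]
      by_cases hy : g * x * g⁻¹ ∈ T
      · exact T.mul_mem hy hy
      · exact hmul _ (hST (hmapS x hxt)) _ (hST (hmapS x hxt)) hy hy
    refine hfixC x ?_ hxt
    have hconj : t * x * t⁻¹ = x := by rw [hxt, mul_inv_cancel_right]
    rcases involution_cases P hG hx h2 with h | h
    · exact ⟨h, hswap.1.le ⟨x, h, hconj⟩⟩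
    · exact ⟨hswap.2.le ⟨x, h, hconj⟩, h⟩
  -- counting commutators with `t`
  let K : Subgroup G :=
    { carrier := {y | y ∈ T ∧ y⁻¹ * (t * y * t⁻¹) ∈ D₁ ⊓ D₂}
      one_mem' := ⟨T.one_mem, by simp⟩
      mul_mem' := fun {a b} ha hb => ⟨T.mul_mem ha.1 hb.1, by
        have e : b⁻¹ * (a⁻¹ * (t * a * t⁻¹)) * b = a⁻¹ * (t * a * t⁻¹) := by
          rw [central P ha.2 (T.inv_mem hb.1), inv_mul_cancel_right]
        have := (D₁ ⊓ D₂).mul_mem ha.2 hb.2
        rw [← e] at this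
        convert this using 1
        group⟩
      inv_mem' := fun {a} ha => ⟨T.inv_mem ha.1, by
        have h := (D₁ ⊓ D₂).inv_mem ha.2
        have e : a * (a⁻¹ * (t * a * t⁻¹))⁻¹ * a⁻¹ = (a⁻¹ * (t * a * t⁻¹))⁻¹ := by
          rw [central P h ha.1, mul_inv_cancel_right]
        rw [← e] at h
        convert h using 1
        group⟩ }
  have hKT : K ≤ T := fun y hy => hy.1
  have hK16 : Nat.card K ≤ 16 := by
    have h1 := Subgroup.card_mul_index (D₂.subgroupOf K)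
    have h2 : Nat.card (D₂.subgroupOf K) ≤ 4 := by
      rw [← card_C P, ← Subgroup.inf_subgroupOf_right, Cores.card_subgroupOf inf_le_right]
      refine Subgroup.card_le_of_le ?_
      rintro y ⟨hy2, hy, hyC⟩
      refine ⟨?_, hy2⟩
      have h : t * y * t⁻¹ ∈ D₂ := by
        have := D₂.mul_mem hy2 hyC.2
        rwa [mul_inv_cancel_left] at this
      have h' : t * y * t⁻¹ ∈ D₁ ⊓ D₂ := ⟨hswap.2.le ⟨y, hy2, rfl⟩, h⟩
      have := D₁.mul_mem h'.1 (D₁.inv_mem hyC.1)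
      rwa [show t * y * t⁻¹ * (y⁻¹ * (t * y * t⁻¹))⁻¹ = y by group] at this
    have h3 : (D₂.subgroupOf K).index ≤ 4 := by
      have h := Subgroup.relIndex_le_of_le_right (H := D₂) hKT Subgroup.index_ne_zero_of_finite
      rwa [P.nat₂.nat.relIndex] at h
    rw [← h1]
    exact (Nat.mul_le_mul h2 h3).trans le_rfl
  set F := T ⊓ Subgroup.centralizer ({t} : Set G) with hF
  have hF2 : Nat.card F ≤ 2 := by
    have h := Set.ncard_le_ncard (show (F : Set G) ⊆ {1, c₀} from fun x hx =>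
      hfixT x hx.1 (Subgroup.mem_centralizer_singleton_iff.1 hx.2).symm) (Set.toFinite _)
    rw [← Nat.card_coe_set_eq, SetLike.coe_sort_coe, Set.ncard_pair (Ne.symm hc₀1)] at h
    exact h
  let v : T → K := fun x => ⟨(x : G)⁻¹ * (t * x * t⁻¹),
    T.mul_mem (T.inv_mem x.2) ((Subgroup.mem_normalizer_iff.1 htn _).1 x.2), by
      have e : ((x : G)⁻¹ * (t * x * t⁻¹))⁻¹ * (t * ((x : G)⁻¹ * (t * x * t⁻¹)) * t⁻¹) =
          (((x : G)⁻¹ * (t * x * t⁻¹)) * ((x : G)⁻¹ * (t * x * t⁻¹)))⁻¹ := by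
        have e1 : t * ((x : G)⁻¹ * (t * x * t⁻¹)) * t⁻¹ = ((x : G)⁻¹ * (t * x * t⁻¹))⁻¹ := by
          calc t * ((x : G)⁻¹ * (t * x * t⁻¹)) * t⁻¹
              = t * (x : G)⁻¹ * t * x * (t⁻¹ * t⁻¹) := by group
            _ = t * (x : G)⁻¹ * t⁻¹ * x := by rw [← mul_inv_rev, htt, inv_one, mul_one, hti]
            _ = _ := by group
        rw [e1, mul_inv_rev ((x : G)⁻¹ * (t * x * t⁻¹))]
      rw [e]
      have hmem := T.mul_mem (T.inv_mem x.2) ((Subgroup.mem_normalizer_iff.1 htn _).1 x.2)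
      exact (D₁ ⊓ D₂).inv_mem ⟨P.nat₁.nat.sq _ hmem, P.nat₂.nat.sq _ hmem⟩⟩
  haveI : Nonempty T := ⟨1⟩
  have hinj : Function.Injective fun x : T => (v x,
      (⟨(x : G) * ((Function.invFun v (v x) : T) : G)⁻¹,
        T.mul_mem x.2 (T.inv_mem (Function.invFun v (v x)).2), by
        have e : (x : G)⁻¹ * (t * x * t⁻¹) = ((Function.invFun v (v x) : T) : G)⁻¹ *
            (t * (Function.invFun v (v x) : T) * t⁻¹) :=
          congrArg Subtype.val (Function.invFun_eq ⟨x, rfl⟩ : v (Function.invFun v (v x)) = v x).symm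
        generalize ((Function.invFun v (v x) : T) : G) = z at e ⊢
        refine Subgroup.mem_centralizer_singleton_iff.2 ?_
        show (x : G) * z⁻¹ * t = t * ((x : G) * z⁻¹)
        calc (x : G) * z⁻¹ * t = (x : G) * (z⁻¹ * (t * z * t⁻¹)) * t * z⁻¹ := by group
          _ = (x : G) * ((x : G)⁻¹ * (t * x * t⁻¹)) * t * z⁻¹ := by rw [e]
          _ = t * ((x : G) * z⁻¹) := by group⟩ : F)) := by
    intro a b h
    obtain ⟨h1, h2⟩ := Prod.mk.injEq .. ▸ h
    have h3 := congrArg Subtype.val h2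
    have e : ((Function.invFun v (v a) : T) : G) = ((Function.invFun v (v b) : T) : G) := by rw [h1]
    change (a : G) * ((Function.invFun v (v a) : T) : G)⁻¹ = (b : G) * ((Function.invFun v (v b) : T) : G)⁻¹ at h3
    rw [e] at h3
    exact Subtype.ext (mul_right_cancel h3)
  have h := Nat.card_le_card_of_injective _ hinj
  rw [Nat.card_prod, P.card_T] at h
  have := h.trans (Nat.mul_le_mul hK16 hF2)
  norm_num at this

/-- Simple groups: `T` is a Sylow 2-subgroup. -/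
theorem sylow_of_four [IsSimpleGroup G] (hG : IsCIT G) : ∃ S : Sylow 2 G, (S : Subgroup G) = T := by
  refine (sylow_or_index_two P hG).resolve_right ?_
  rintro ⟨N, t, hN, hN2, -, htN, -⟩
  rcases hN.eq_bot_or_eq_top with rfl | rfl
  · rw [Subgroup.index_bot] at hN2
    have h := Subgroup.card_subgroup_dvd_card T
    rw [P.card_T, hN2] at h
    norm_num at h
  · exact htN trivial

end

end Cfsg.Agent.CITClass
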