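/-
The classification of simple CIT groups, the Suzuki groups up to isomorphism.

* `classify` : `PSL₂(F)` of the list, `PSL₃(4)` or a Suzuki group
* `citClass` : the same as `EPPO.CITClass`
-/
import Cfsg.Agent.Lib.CITClass.TI
import Cfsg.Agent.Lib.CITClass.Sylow
import Cfsg.Agent.Lib.CIT.Classify
import Cfsg.Agent.Lib.EPPO.Simple

set_option autoImplicit false

open Cfsg

namespace Cfsg.Agent.CITClass

universe u

theorem classify {G : Type u} [Group G] [Finite G] [IsSimpleGroup G] (hnc : ∃ a b : G, a * b ≠ b * a)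
    (hG : CIT.IsCIT G) :
    CIT.PSLList G ∨
    (∃ (F : Type) (_ : Field F) (_ : Fintype F), Fintype.card F = 4 ∧
        Nonempty (G ≃* Matrix.ProjectiveSpecialLinearGroup (Fin 3) F)) ∨ Lie.IsoSuzuki G := by
  rcases CIT.classify_of hnc hG (fun _ _ _ P => sylow_of_four P hG)
      (TI := CIT.PSLList G ∨ Lie.IsoSuzuki G) (classify_ti hnc hG) with h | h | h | h
  · exact Or.inl h
  · exact Or.inr (Or.inl h)
  · exact Or.inl h
  · exact Or.inr (Or.inr h)

theorem citClass : EPPO.CITClass.{u} := fun _G _ _ _ hnc hC => classify hnc hC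

end Cfsg.Agent.CITClass
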